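import Groth.Agent.Lib.AlgStack.StabilizerApps
import Groth.Agent.Lib.AlgStack.Mono
import Groth.Agent.H14.IsoNat.Rigid
import Groth.Agent.H14.Sep.Inertia
import Groth.Agent.H14.Chart.OpenSub
import Groth.Agent.Lib.AlgSpDecent.Birat
import Groth.Agent.Lib.WeakNormal.AbsScheme

/-!
# Endomorphisms of a functor of Deligne–Mumford stacks trivial on a dense open
-/

set_option autoImplicit false
set_option backward.isDefEq.respectTransparency false
set_option backward.isDefEq.respectTransparency.types false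

universe u

open CategoryTheory CategoryTheory.Limits AlgebraicGeometry Opposite

namespace Groth.Agent.Lib.EndTrans

open Groth.Agent.Lib Groth.Agent.Lib.AlgStack
open Groth.Agent.H14.Chart
open AlgStack.BasedBasic
open FibCat (IsFibGrpd overCat toSelf fp fpFst)
open AlgSt (RepByAlgSpWith RepByAlgSp IsAlgStack IsDM overMap)

variable {S : Scheme.{u}} {𝒳 𝒴 : AlgSt.Cat S} {F : 𝒳 ⥤ᵇ 𝒴} (α : F ⟶ F)

theorem app_vert (x : 𝒳.obj) : 𝒴.p.map (α.toNatTrans.app x) = 𝟙 (𝒴.p.obj (F.obj x)) := by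
  have := α.isHomLift' x
  have h := IsHomLift.fac' 𝒴.p (𝟙 (𝒳.p.obj x)) (α.toNatTrans.app x)
  simpa using h

/-- Triviality passes to sources of morphisms. -/
theorem app_of_hom (h𝒴 : IsFibGrpd 𝒴.p) {c x : 𝒳.obj} (χ : c ⟶ x)
    (hx : α.toNatTrans.app x = 𝟙 (F.obj x)) : α.toNatTrans.app c = 𝟙 (F.obj c) := by
  have hl : 𝒴.p.IsHomLift (𝟙 (𝒳.p.obj c)) (α.toNatTrans.app c) := α.isHomLift' c
  refine Fibred.Descent.ext_lift h𝒴 (F.map χ) (f := 𝒳.p.map χ) inferInstance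
    (g := 𝟙 (𝒳.p.obj c)) hl (IsHomLift.id (F.w_obj c)) ?_
  rw [← α.toNatTrans.naturality χ, hx, Category.comp_id, Category.id_comp]

/-- A point represented by an object at which the endomorphism is trivial. -/
def Good (p : AlgSt.Points 𝒳) : Prop :=
  ∃ (U : Over S) (y : overCat U ⥤ᵇ 𝒳) (u : ↥U.left),
    AlgSt.Points.ofChart y u = p ∧ α.toNatTrans.app (y.obj (Over.mk (𝟙 U))) = 𝟙 _

/-- Triviality at every point gives triviality. -/
theorem app_of_good (h𝒳 : IsFibGrpd 𝒳.p) (h𝒴 : IsFibGrpd 𝒴.p) (hΔ : AlgSt.IsDMOver 𝒴) {T : Over S}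
    (y : overCat T ⥤ᵇ 𝒳) (h : ∀ t, Good α (AlgSt.Points.ofChart y t)) :
    α.toNatTrans.app (y.obj (Over.mk (𝟙 T))) = 𝟙 _ := by
  refine Stabilizer.eq_id_of_pointwise h𝒴 hΔ _ (app_vert α _) fun t => ?_
  have e0 : 𝒴.p.obj (F.obj (y.obj (Over.mk (𝟙 T)))) = T := (F.w_obj _).trans (y.w_obj _)
  let t₀ : ↥T.left := (eqToHom e0).left t
  obtain ⟨U, z, u, hu, hz⟩ := h t₀
  obtain ⟨W, a, b, w, ha, -, ⟨β⟩⟩ := Points.exists_of_ofChart_eq h𝒳 hu.symm
  let o : (overCat W).obj := Over.mk (𝟙 W)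
  let c := y.obj ((overMap a).obj o)
  have hc : α.toNatTrans.app c = 𝟙 (F.obj c) :=
    app_of_hom α h𝒴 ((BasedBasic.appIso β o).hom ≫
      z.map (Over.homMk (o.hom ≫ b) (Category.comp_id _) : (overMap b).obj o ⟶ Over.mk (𝟙 U))) hz
  let χ : c ⟶ y.obj (Over.mk (𝟙 T)) :=
    y.map (Over.homMk (o.hom ≫ a) (Category.comp_id _) : (overMap a).obj o ⟶ Over.mk (𝟙 T))
  let e : W ⟶ 𝒴.p.obj (F.obj (y.obj (Over.mk (𝟙 T)))) := a ≫ eqToHom e0.symm
  refine ⟨W, e, F.obj c, F.map χ, ⟨w, ?_⟩, ?_, ?_⟩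
  · change (a ≫ eqToHom e0.symm).left w = t
    rw [Over.comp_left, Scheme.Hom.comp_apply, ha]
    change (eqToHom e0.symm).left ((eqToHom e0).left t) = t
    rw [← Scheme.Hom.comp_apply, ← Over.comp_left, eqToHom_trans, eqToHom_refl]
    rfl
  · refine IsHomLift.of_fac' _ _ _ ((F.w_obj c).trans (y.w_obj _)) rfl ?_
    have h1 : 𝒳.p.IsHomLift a χ := by
      have : (overCat T).p.IsHomLift a (Over.homMk (o.hom ≫ a) (Category.comp_id _) :
          (overMap a).obj o ⟶ Over.mk (𝟙 T)) := IsHomLift.of_fac' _ _ _ rfl rfl (by simp [o]; rfl)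
      exact BasedFunctor.preserves_isHomLift y a _
    have h2 := IsHomLift.fac' 𝒴.p a (F.map χ)
    simpa [e] using h2
  · rw [α.toNatTrans.naturality χ, hc, Category.id_comp]

/-- Triviality on a dense set of points gives triviality. -/
theorem eq_id_of_dense (h𝒳 : IsAlgStack Scheme.fppfPrecoverage 𝒳) (h𝒴 : IsDM Scheme.fppfPrecoverage 𝒴)
    (hΔ : RepByAlgSpWith AlgSp.IsSeparatedMor (FibCat.diag (toSelf 𝒴))) (V : Set (AlgSt.Points 𝒳))
    (hV : IsOpen V) (hd : Dense V) (hgood : ∀ p ∈ V, Good α p) : α = 𝟙 F := by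
  have hX := h𝒳.isStack.1
  have hY := h𝒴.1.isStack.1
  have hDM := Stabilizer.isDMOver_of_isDM h𝒴
  have hall : ∀ p, Good α p := by
    obtain ⟨W, a, ha, has⟩ := h𝒳.atlas
    let W₀ : Over S := Over.mk (W.left.nilradical.subschemeι ≫ W.hom)
    let r : W₀ ⟶ W := Over.homMk W.left.nilradical.subschemeι
    haveI : IsReduced W₀.left := WeakNormal.AbsScheme.isReduced_nilradical_subscheme W.left
    have hrs : Function.Surjective r.left := fun x => by
      have : Set.range W.left.nilradical.subschemeι = Set.univ := by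
        rw [Scheme.IdealSheafData.range_subschemeι, Scheme.support_nilradical]; rfl
      exact (Set.ext_iff.1 this x).2 trivial
    let O : W.left.Opens := ⟨_, hV.preimage (Points.continuous_ofChart h𝒳 a)⟩
    let O₀ : W₀.left.Opens := r.left ⁻¹ᵁ O
    let P : Over S := Over.mk (O₀.ι ≫ W₀.hom)
    let j : P ⟶ W₀ := Over.homMk O₀.ι
    have hO : Dense (O : Set ↥W.left) := hd.preimage (Points.isOpenMap_ofChart hX ha)
    have hO₀ : Dense (O₀ : Set ↥W₀.left) := by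
      have hr : Topology.IsClosedEmbedding r.left := W.left.nilradical.subschemeι.isClosedEmbedding
      exact hO.preimage (hr.toHomeomorphOfSurjective hrs).isOpenMap
    haveI : IsDominant j.left := ⟨by
      rw [DenseRange, show Set.range j.left = (O₀ : Set ↥W₀.left) from Scheme.Opens.range_ι O₀]
      exact hO₀⟩
    haveI : IsSchemeTheoreticallyDominant j.left := IsSchemeTheoreticallyDominant.of_isDominant j.left
    let y₀ := BasedFunctor.comp (overMap r) a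
    let ξ : 𝒳.obj := y₀.obj (Over.mk (𝟙 W₀))
    let z : 𝒳.obj := (BasedFunctor.comp (overMap j) y₀).obj (Over.mk (𝟙 P))
    have hz : α.toNatTrans.app z = 𝟙 _ := app_of_good α hX hY hDM (BasedFunctor.comp (overMap j) y₀) fun t => by
      rw [Points.ofChart_overMap, Points.ofChart_overMap]
      exact hgood _ t.2
    let g : (overMap j).obj (Over.mk (𝟙 P)) ⟶ (Over.mk (𝟙 W₀) : (overCat W₀).obj) :=
      Over.homMk j (by simp [overMap])
    have hξb : 𝒴.p.obj (F.obj ξ) = W₀ := (F.w_obj ξ).trans (y₀.w_obj _)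
    have hψ : 𝒴.p.IsHomLift j (F.map (y₀.map g)) := by
      have : (overCat W₀).p.IsHomLift j g := IsHomLift.of_fac' _ _ _ rfl rfl (by simp [g]; rfl)
      have := BasedFunctor.preserves_isHomLift y₀ j g
      exact BasedFunctor.preserves_isHomLift F j _
    have hθ : α.toNatTrans.app ξ = 𝟙 (F.obj ξ) := by
      refine H14.IsoNat.Rigid.vert_ext_dom hY (H14.Sep.Inertia.inertiaToBase_of_diag hΔ) j hξb
        _ _ (IsHomLift.of_fac' _ _ _ hξb hξb ((app_vert α ξ).trans (by simp))) (IsHomLift.id hξb)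
        (F.map (y₀.map g)) hψ ?_
      rw [α.toNatTrans.naturality, Category.comp_id]
      exact (congrArg (· ≫ _) hz).trans (Category.id_comp _)
    intro p
    obtain ⟨t, rfl⟩ := Points.surjective_ofChart hX has p
    obtain ⟨t₀, rfl⟩ := hrs t
    exact ⟨W₀, y₀, t₀, Points.ofChart_overMap r a t₀, hθ⟩
  refine BasedNatTrans.ext _ _ (NatTrans.ext (funext fun x => ?_))
  obtain ⟨e, -⟩ := Yoneda.exists_fromObj_iso hX (rfl : 𝒳.p.obj x = 𝒳.p.obj x)
  exact app_of_hom α hY e.inv (app_of_good α hX hY hDM _ fun t => hall _)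

theorem eq_id (h𝒳 : IsAlgStack Scheme.fppfPrecoverage 𝒳) (h𝒴 : IsDM Scheme.fppfPrecoverage 𝒴)
    (hΔ : RepByAlgSpWith AlgSp.IsSeparatedMor (FibCat.diag (toSelf 𝒴))) {𝒰 𝒱 : AlgSt.Cat S}
    (i : 𝒰 ⥤ᵇ 𝒳) (hi : AlgSt.IsOpenImm i) (h𝒰 : RepByAlgSp 𝒰)
    (hd : Dense (Set.range (AlgSt.Points.map i))) (j : 𝒱 ⥤ᵇ 𝒴) (hj : AlgSt.IsOpenImm j)
    (h𝒱 : RepByAlgSp 𝒱) (G : 𝒰 ⥤ᵇ 𝒱) (e : BasedFunctor.comp G j ≅ BasedFunctor.comp i F) :
    α = 𝟙 F := by
  have hX := h𝒳.isStack.1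
  have hY := h𝒴.1.isStack.1
  obtain ⟨U₁, e₁, he₁⟩ := id h𝒰
  obtain ⟨V₁, e₂, he₂⟩ := id h𝒱
  have hU := IsAlg.isAlgStack_of_isEquivOver he₁ (IsAlg.isAlgStack_ofSp U₁)
  have hV := IsAlg.isAlgStack_of_isEquivOver he₂ (IsAlg.isAlgStack_ofSp V₁)
  have := Mono.full_of_mono hV.isStack.1 hY (Rep.repByAlgSpWith_mono hj fun _ _ _ _ _ hh =>
    AlgSpDecent.Birat.mono_openImm hh)
  have key : ∀ z, α.toNatTrans.app (i.obj z) = 𝟙 (F.obj (i.obj z)) := fun z => by
    let E := BasedBasic.appIso e z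
    have h1 := BasedBasic.appIso_isHomLift e z
    have : 𝒴.p.IsHomLift (𝟙 (𝒰.p.obj z)) E.hom := h1
    have : 𝒴.p.IsHomLift (𝟙 (𝒰.p.obj z)) E.inv := IsHomLift.lift_id_inv _ _ _
    have : 𝒴.p.IsHomLift (𝟙 (𝒰.p.obj z)) (α.toNatTrans.app (i.obj z)) := by
      rw [← i.w_obj z]; exact α.isHomLift' _
    obtain ⟨k, hk⟩ := j.toFunctor.map_surjective (E.hom ≫ α.toNatTrans.app (i.obj z) ≫ E.inv)
    have : 𝒴.p.IsHomLift (𝟙 (𝒰.p.obj z)) (E.hom ≫ α.toNatTrans.app (i.obj z) ≫ E.inv) := inferInstance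
    rw [← hk] at this
    have hk1 : 𝒱.p.IsHomLift (𝟙 (𝒰.p.obj z)) k := (j.isHomLift_iff _ k).1 this
    have hk2 : k = 𝟙 _ := Space.setoidal_of_repByAlgSp h𝒱 _ k
      ((IsHomLift.fac' 𝒱.p (𝟙 (𝒰.p.obj z)) k).trans (by simp))
    rw [hk2, CategoryTheory.Functor.map_id] at hk
    have h2 := congrArg (fun m => E.inv ≫ m ≫ E.hom) hk.symm
    simp at h2
    exact h2.trans ((congrArg (E.inv ≫ ·) (Category.id_comp E.hom)).trans E.inv_hom_id)
  refine eq_id_of_dense α h𝒳 h𝒴 hΔ _ (OpenSub.isOpen_range_map hU hX (OpenSub.smooth_of_isOpenImm hi)) hd ?_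
  rintro _ ⟨q, rfl⟩
  obtain ⟨U, c, u, rfl⟩ := Points.exists_ofChart_eq hU.isStack.1 q
  exact ⟨U, BasedFunctor.comp c i, u, (Points.map_ofChart i c u).symm, key _⟩

end Groth.Agent.Lib.EndTrans
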